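import Mathlib

/-!
# Finite free resolutions at associated primes

Over a local ring with a nonzero element killed by the maximal ideal, an injective map of finite free
modules splits, so all images in a finite free resolution are free and their ranks are alternating sums.
-/

universe u
open IsLocalRing TensorProduct
noncomputable section

namespace Groth.Agent.FFR

section Socle

variable {R : Type u} [CommRing R] [IsLocalRing R]

lemma one_tmul_eq_zero_of_mem {F : Type*} [AddCommGroup F] [Module R F] {ι : Type*} [Fintype ι]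
    (b : Module.Basis ι R F) (v : F) (hv : ∀ i, b.repr v i ∈ maximalIdeal R) :
    (1 : ResidueField R) ⊗ₜ[R] v = 0 := by
  rw [← b.sum_repr v, tmul_sum]
  refine Finset.sum_eq_zero fun i _ => ?_
  rw [← smul_tmul, Algebra.smul_def, mul_one]
  rw [show algebraMap R (ResidueField R) (b.repr v i) = 0 from (residue_eq_zero_iff _).mpr (hv i),
    zero_tmul]

/-- An injective map of finite free modules stays injective modulo the maximal ideal, over a ring
with nonzero socle. -/
lemma lTensor_injective_of_socle {z : R} (hz : z ≠ 0) (hzm : ∀ r ∈ maximalIdeal R, z * r = 0)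
    {F G : Type*} [AddCommGroup F] [Module R F] [Module.Free R F] [Module.Finite R F]
    [AddCommGroup G] [Module R G] [Module.Free R G] [Module.Finite R G]
    (l : F →ₗ[R] G) (hl : Function.Injective l) :
    Function.Injective (l.lTensor (ResidueField R)) := by
  refine (injective_iff_map_eq_zero _).mpr fun t ht => ?_
  obtain ⟨v, rfl⟩ := TensorProduct.mk_surjective R F (ResidueField R) Ideal.Quotient.mk_surjective t
  rw [TensorProduct.mk_apply, LinearMap.lTensor_tmul] at ht
  let bG := Module.Free.chooseBasis R G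
  let bF := Module.Free.chooseBasis R F
  have hlv : ∀ j, bG.repr (l v) j ∈ maximalIdeal R := by
    intro j
    have e := congr_arg ((TensorProduct.rid R (ResidueField R)).toLinearMap ∘ₗ
      (bG.coord j).lTensor (ResidueField R)) ht
    rw [map_zero, LinearMap.comp_apply, LinearMap.lTensor_tmul] at e
    refine (residue_eq_zero_iff _).mp ?_
    simpa [Algebra.smul_def] using e
  have hzlv : z • l v = 0 := bG.ext_elem fun j => by
    rw [map_smul, Finsupp.smul_apply, smul_eq_mul, hzm _ (hlv j), map_zero, Finsupp.zero_apply]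
  have hzv : z • v = 0 := hl (by rw [map_smul, hzlv, map_zero])
  refine one_tmul_eq_zero_of_mem bF v fun i => ?_
  by_contra hu
  have e : z * bF.repr v i = 0 := by
    rw [← smul_eq_mul, ← Finsupp.smul_apply, ← map_smul, hzv, map_zero, Finsupp.zero_apply]
  exact hz ((notMem_maximalIdeal.mp hu).mul_left_eq_zero.mp e)

/-- Alternating sum of the ranks `n 1 - n 2 + ⋯`. -/
def chi (n : ℕ → ℕ) (e : ℕ) : ℤ := ∑ i ∈ Finset.range (e + 1), (-1) ^ i * (n (i + 1) : ℤ)

lemma chi_succ (n : ℕ → ℕ) (e : ℕ) : chi n (e + 1) = (n 1 : ℤ) - chi (fun i => n (i + 1)) e := by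
  rw [chi, Finset.sum_range_succ', chi, sub_eq_add_neg, ← Finset.sum_neg_distrib, add_comm]
  simp [pow_succ]

/-- In a finite free resolution over a local ring with nonzero socle the image at the end is free, of
rank the alternating sum. -/
theorem range_free_and_finrank {z : R} (hz : z ≠ 0) (hzm : ∀ r ∈ maximalIdeal R, z * r = 0) :
    ∀ (e : ℕ) (n : ℕ → ℕ) (M : (i : ℕ) → Matrix (Fin (n i)) (Fin (n (i + 1))) R),
      (∀ i < e, LinearMap.ker (M i).mulVecLin = LinearMap.range (M (i + 1)).mulVecLin) →
      LinearMap.ker (M e).mulVecLin = ⊥ →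
      Module.Free R (LinearMap.range (M 0).mulVecLin) ∧
        (Module.finrank R (LinearMap.range (M 0).mulVecLin) : ℤ) = chi n e := by
  intro e
  induction e with
  | zero =>
    intro n M _ h
    have eqv := LinearEquiv.ofInjective (M 0).mulVecLin (LinearMap.ker_eq_bot.mp h)
    refine ⟨Module.Free.of_equiv eqv, ?_⟩
    rw [← eqv.finrank_eq, Module.finrank_pi, Fintype.card_fin]
    simp [chi]
  | succ e ih =>
    intro n M hex h
    obtain ⟨hfree, hrank⟩ := ih (fun i => n (i + 1)) (fun i => M (i + 1))
      (fun i hi => hex (i + 1) (by omega)) h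
    have hk : LinearMap.ker (M 0).mulVecLin = LinearMap.range (M (0 + 1)).mulVecLin := hex 0 (by omega)
    generalize hN : LinearMap.range (M (0 + 1)).mulVecLin = N at hfree hrank hk
    have : Module.Finite R N := by rw [← hN]; infer_instance
    have hinj := lTensor_injective_of_socle hz hzm N.subtype N.injective_subtype
    have hq : Module.Free R ((Fin (n 1) → R) ⧸ N) :=
      Module.free_of_lTensor_residueField_injective N.subtype N.mkQ N.mkQ_surjective
        (LinearMap.exact_subtype_mkQ N) hinj
    obtain ⟨s, hs⟩ := Module.projective_lifting_property N.mkQ LinearMap.id N.mkQ_surjective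
    have e1 := ((LinearMap.exact_subtype_mkQ N).splitSurjectiveEquiv N.injective_subtype ⟨s, hs⟩).1
    have e2 : ((Fin (n 1) → R) ⧸ N) ≃ₗ[R] LinearMap.range (M 0).mulVecLin :=
      (Submodule.quotEquivOfEq _ _ hk.symm).trans (M 0).mulVecLin.quotKerEquivRange
    refine ⟨Module.Free.of_equiv e2, ?_⟩
    have hsum := e1.finrank_eq
    rw [Module.finrank_pi, Fintype.card_fin, Module.finrank_prod] at hsum
    have e3 := e2.finrank_eq
    have hsum' : n 1 = Module.finrank R N + Module.finrank R (LinearMap.range (M 0).mulVecLin) :=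
      hsum.trans (congr_arg (Module.finrank R N + ·) e3)
    rw [chi_succ, ← hrank]
    omega

end Socle

section Localisation

variable {R : Type u} [CommRing R] (S : Submonoid R) (T : Type u) [CommRing T] [Algebra R T]
  [IsLocalization S T]

include S in
lemma exists_smul_eq_map (N : ℕ) (v : Fin N → T) :
    ∃ (s : S) (w : Fin N → R), ∀ j, algebraMap R T s * v j = algebraMap R T (w j) := by
  obtain ⟨b, hb⟩ := IsLocalization.exist_integer_multiples_of_finite S v
  choose w hw using hb
  exact ⟨b, w, fun j => by rw [hw j, Algebra.smul_def]⟩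

include S in
lemma ker_map_eq_bot {a b : ℕ} (A : Matrix (Fin a) (Fin b) R) (hA : LinearMap.ker A.mulVecLin = ⊥) :
    LinearMap.ker (A.map (algebraMap R T)).mulVecLin = ⊥ := by
  rw [LinearMap.ker_eq_bot']
  intro v hv
  obtain ⟨s, w, hw⟩ := exists_smul_eq_map S T b v
  have h1 : ∀ i, algebraMap R T (A.mulVec w i) = 0 := by
    intro i
    rw [RingHom.map_mulVec]
    have : (algebraMap R T ∘ w) = algebraMap R T s • v := funext fun j => (hw j).symm
    rw [this, Matrix.mulVec_smul, show (A.map (algebraMap R T)).mulVec v = 0 from hv, smul_zero,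
      Pi.zero_apply]
  choose t ht using fun i => (IsLocalization.map_eq_zero_iff S T _).mp (h1 i)
  have h2 : A.mulVec ((∏ i, t i : S) • w) = 0 := by
    rw [Submonoid.smul_def, Matrix.mulVec_smul]
    ext i
    rw [Pi.smul_apply, smul_eq_mul, Pi.zero_apply, ← Finset.mul_prod_erase _ t (Finset.mem_univ i),
      Submonoid.coe_mul, mul_right_comm, ht, zero_mul]
  have h3 : ((∏ i, t i : S) • w) = 0 := LinearMap.ker_eq_bot'.mp hA _ h2
  funext j
  have e := congr_arg (algebraMap R T) (congr_fun h3 j)
  rw [Pi.smul_apply, Submonoid.smul_def, smul_eq_mul, map_mul, ← hw, Pi.zero_apply, map_zero,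
    (IsLocalization.map_units T _).mul_right_eq_zero, (IsLocalization.map_units T _).mul_right_eq_zero] at e
  exact e

include S in
lemma ker_map_eq_range {a b c : ℕ} (A : Matrix (Fin a) (Fin b) R) (B : Matrix (Fin b) (Fin c) R)
    (h : LinearMap.ker A.mulVecLin = LinearMap.range B.mulVecLin) :
    LinearMap.ker (A.map (algebraMap R T)).mulVecLin = LinearMap.range (B.map (algebraMap R T)).mulVecLin := by
  apply le_antisymm
  · intro v hv
    obtain ⟨s, w, hw⟩ := exists_smul_eq_map S T b v
    have h1 : ∀ i, algebraMap R T (A.mulVec w i) = 0 := by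
      intro i
      rw [RingHom.map_mulVec]
      have : (algebraMap R T ∘ w) = algebraMap R T s • v := funext fun j => (hw j).symm
      rw [this, Matrix.mulVec_smul, show (A.map (algebraMap R T)).mulVec v = 0 from hv, smul_zero,
        Pi.zero_apply]
    choose t ht using fun i => (IsLocalization.map_eq_zero_iff S T _).mp (h1 i)
    have h2 : ((∏ i, t i : S) • w) ∈ LinearMap.ker A.mulVecLin := by
      rw [LinearMap.mem_ker, Matrix.mulVecLin_apply, Submonoid.smul_def, Matrix.mulVec_smul]
      ext i
      rw [Pi.smul_apply, smul_eq_mul, Pi.zero_apply, ← Finset.mul_prod_erase _ t (Finset.mem_univ i),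
        Submonoid.coe_mul, mul_right_comm, ht, zero_mul]
    rw [h] at h2
    obtain ⟨y, hy⟩ := h2
    have hu : IsUnit (algebraMap R T ((∏ i, t i : S) * s : S)) := IsLocalization.map_units T _
    refine ⟨(↑hu.unit⁻¹ : T) • (algebraMap R T ∘ y), ?_⟩
    rw [Matrix.mulVecLin_apply, Matrix.mulVec_smul]
    funext j
    rw [Pi.smul_apply, smul_eq_mul, ← RingHom.map_mulVec, show B.mulVec y = _ from hy, Pi.smul_apply,
      Submonoid.smul_def, smul_eq_mul, map_mul, ← hw, ← mul_assoc, ← mul_assoc, mul_assoc (↑hu.unit⁻¹ : T),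
      ← map_mul, ← Submonoid.coe_mul, IsUnit.val_inv_mul, one_mul]
  · rintro v ⟨y, rfl⟩
    obtain ⟨s, w, hw⟩ := exists_smul_eq_map S T c y
    have hAB : A.mulVec (B.mulVec w) = 0 :=
      LinearMap.mem_ker.mp (h.ge ⟨w, rfl⟩ : B.mulVec w ∈ LinearMap.ker A.mulVecLin)
    rw [LinearMap.mem_ker, Matrix.mulVecLin_apply, Matrix.mulVecLin_apply]
    funext i
    have e := congr_arg (algebraMap R T) (congr_fun hAB i)
    rw [RingHom.map_mulVec] at e
    have e2 : (algebraMap R T ∘ B.mulVec w) = algebraMap R T s • (B.map (algebraMap R T)).mulVec y := by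
      rw [← Matrix.mulVec_smul]
      funext j
      rw [Function.comp_apply, RingHom.map_mulVec]
      exact congr_fun (congr_arg _ (funext fun l => (hw l).symm)) j
    rw [e2, Matrix.mulVec_smul, Pi.smul_apply, smul_eq_mul, Pi.zero_apply, map_zero,
      (IsLocalization.map_units T s).mul_right_eq_zero] at e
    exact e

end Localisation

section Main

variable {R : Type u} [CommRing R] (Q : Ideal R) [Q.IsPrime]

lemma socle_of_colon {x : R} (hx : ∀ r, r ∈ Q ↔ r * x = 0) :
    algebraMap R (Localization.AtPrime Q) x ≠ 0 ∧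
      ∀ m ∈ maximalIdeal (Localization.AtPrime Q), algebraMap R (Localization.AtPrime Q) x * m = 0 := by
  constructor
  · intro h
    obtain ⟨t, ht⟩ := (IsLocalization.map_eq_zero_iff Q.primeCompl _ _).mp h
    exact t.2 ((hx _).mpr ht)
  · intro m hm
    obtain ⟨r, s, rfl⟩ := IsLocalization.exists_mk'_eq Q.primeCompl m
    have hr : r ∈ Q := (IsLocalization.AtPrime.mk'_mem_maximal_iff _ Q r s).mp hm
    rw [IsLocalization.mul_mk'_eq_mk'_of_mul, mul_comm, (hx r).mp hr, IsLocalization.mk'_zero]

/-- Localise a free resolution of the ideal spanned by the entries of the first row at an associated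
prime. -/
lemma local_facts {x : R} (hx : ∀ r, r ∈ Q ↔ r * x = 0) (e : ℕ) (n : ℕ → ℕ)
    (M : (i : ℕ) → Matrix (Fin (n i)) (Fin (n (i + 1))) R)
    (hex : ∀ i < e, LinearMap.ker (M i).mulVecLin = LinearMap.range (M (i + 1)).mulVecLin)
    (hlast : LinearMap.ker (M e).mulVecLin = ⊥) :
    ((∀ i j, M 0 i j ∈ Q) → chi n e = 0) ∧
      (chi n e = 0 → ∀ i j, algebraMap R (Localization.AtPrime Q) (M 0 i j) = 0) := by
  obtain ⟨hz, hzm⟩ := socle_of_colon Q hx
  obtain ⟨hfree, hrank⟩ := range_free_and_finrank hz hzm e n
    (fun i => (M i).map (algebraMap R (Localization.AtPrime Q)))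
    (fun i hi => ker_map_eq_range Q.primeCompl _ _ _ (hex i hi))
    (ker_map_eq_bot Q.primeCompl _ _ hlast)
  constructor
  · intro hQ
    rw [← hrank]
    have hkill : ∀ v ∈ LinearMap.range ((M 0).map (algebraMap R (Localization.AtPrime Q))).mulVecLin,
        algebraMap R (Localization.AtPrime Q) x • v = 0 := by
      rintro v ⟨y, rfl⟩
      rw [Matrix.mulVecLin_apply]
      funext i
      rw [Pi.smul_apply, smul_eq_mul, Pi.zero_apply]
      refine hzm _ ?_
      rw [Matrix.mulVec, dotProduct]
      refine sum_mem fun j _ => Ideal.mul_mem_right _ _ ?_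
      rw [Matrix.map_apply]
      exact (IsLocalization.AtPrime.to_map_mem_maximal_iff (Localization.AtPrime Q) Q _).mpr (hQ i j)
    have : Subsingleton (LinearMap.range ((M 0).map (algebraMap R (Localization.AtPrime Q))).mulVecLin) := by
      let b := Module.Free.chooseBasis (Localization.AtPrime Q)
        (LinearMap.range ((M 0).map (algebraMap R (Localization.AtPrime Q))).mulVecLin)
      by_cases hι : IsEmpty (Module.Free.ChooseBasisIndex (Localization.AtPrime Q)
        (LinearMap.range ((M 0).map (algebraMap R (Localization.AtPrime Q))).mulVecLin))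
      · exact b.repr.injective.subsingleton
      · obtain ⟨k⟩ := not_isEmpty_iff.mp hι
        have h := congr_arg (fun w => b.repr w k)
          (Subtype.ext (hkill _ (b k).2) : algebraMap R (Localization.AtPrime Q) x • b k = 0)
        simp only [map_smul, b.repr_self, map_zero, Finsupp.zero_apply, Finsupp.smul_apply,
          Finsupp.single_eq_same, smul_eq_mul, mul_one] at h
        exact absurd h hz
    rw [Module.finrank_zero_of_subsingleton, Nat.cast_zero]
  · intro h0 i j
    rw [← hrank, Nat.cast_eq_zero] at h0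
    have : Subsingleton (LinearMap.range ((M 0).map (algebraMap R (Localization.AtPrime Q))).mulVecLin) := by
      rw [Module.finrank_eq_card_chooseBasisIndex, Fintype.card_eq_zero_iff] at h0
      exact (Module.Free.chooseBasis (Localization.AtPrime Q) _).repr.injective.subsingleton
    have e1 := congr_arg Subtype.val (Subsingleton.elim
      (⟨_, Pi.single j 1, rfl⟩ : LinearMap.range ((M 0).map (algebraMap R (Localization.AtPrime Q))).mulVecLin) 0)
    simpa using congr_fun e1 i

end Main

/-- A nonzero ideal with a finite free resolution is not killed by any nonzero element. -/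
theorem false_of_le_associatedPrime {R : Type u} [CommRing R] [IsNoetherianRing R] (e : ℕ) (n : ℕ → ℕ)
    (M : (i : ℕ) → Matrix (Fin (n i)) (Fin (n (i + 1))) R)
    (hex : ∀ i < e, LinearMap.ker (M i).mulVecLin = LinearMap.range (M (i + 1)).mulVecLin)
    (hlast : LinearMap.ker (M e).mulVecLin = ⊥) (hne : ∃ i j, M 0 i j ≠ 0)
    {P : Ideal R} (hP : IsAssociatedPrime P R) (hMP : ∀ i j, M 0 i j ∈ P) : False := by
  obtain ⟨hPp, x, hx⟩ := isAssociatedPrime_iff.mp hP
  have hchi := (local_facts P (x := x) (fun r => by rw [hx]; simp [Submodule.mem_colon_singleton]) e n M hex hlast).1 hMP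
  obtain ⟨i, j, hij⟩ := hne
  obtain ⟨Q, hQ, hQle⟩ := exists_le_isAssociatedPrime_of_isNoetherianRing R (M 0 i j) hij
  obtain ⟨hQp, y, hy⟩ := isAssociatedPrime_iff.mp hQ
  have h0 := (local_facts Q (x := y) (fun r => by rw [hy]; simp [Submodule.mem_colon_singleton]) e n M hex hlast).2
    hchi i j
  obtain ⟨t, ht⟩ := (IsLocalization.map_eq_zero_iff Q.primeCompl _ _).mp h0
  exact t.2 (hQle (by simpa [Submodule.mem_colon_singleton] using ht))

end Groth.Agent.FFR
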